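import Cfsg.Agent.H56.Exc.BigRows
import Cfsg.Agent.H568.FieldFix
import Cfsg.Agent.Lib.AutSL2
import Cfsg.Agent.BpRee.PslOdd
import Cfsg.Agent.H160.PD.Crit
import Cfsg.Agent.FastGrp
import Cfsg.Agent.Prune
set_option linter.all false

section
prune_inst 0x7f00000000000000000000000000000000000000000000000000000000000000000000000000000000000000000000000000000000000000000000000000000000000000000000000000000000000000003fffffffffffffffffffffffffffbeffbdffffffff

-- part: H742/PD/BigE6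
section
set_option linter.all false
open scoped Cfsg.Agent.FastGrp

/-!
# The torus of order `(q⁴ + 1) (q² - 1)` of `E₆(q)` is big (helper742)
-/

set_option autoImplicit false

namespace Cfsg.Agent.H742.PD

open Cfsg.Agent Cfsg.Lie Cfsg.Agent.H56.Exc

universe u

variable {F : Type u} [Field F] [Fintype F] {q : ℕ}

theorem big_E6_8 (hq : Fintype.card F = q) {m r : ℕ}
    (hm : (m : ℤ) = (1 + (q : ℤ) ^ 4) * ((q : ℤ) ^ 2 - 1)) (hr : H436.Prim q 8 r) :
    Big ↥(chevE6.group F) r m 8 := by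
  have hlt := prim_lt hr (by norm_num)
  have hmod := prim_mod hr
  have hrp := hr.prime
  have hfact : Fact r.Prime := ⟨hrp⟩
  refine Big.of_cyc hrp (Cfsg.Agent.H129.CycCard.card_E6_8 hq hm hrp (prim_dvd_8 hr) (by omega)) ?_
    (fun h1 => absurd (Nat.le_of_dvd (by norm_num) h1) (not_le.2 hlt))
  intro t c a htm hmt hc ha hca
  set D := Nat.gcd 3 (q - 1) with hDdef
  set K : ℤ := (q : ℤ) ^ 36 * ((q : ℤ) ^ 5 - 1) * ((q : ℤ) ^ 6 - 1) * ((q : ℤ) ^ 4 - 1) * ((q : ℤ) ^ 9 - 1) *
    ((q : ℤ) ^ 12 - 1) with hKdef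
  have hG : (D : ℤ) * Nat.card ↥(chevE6.group F) = m * K := by
    rw [ord_E6 hq, hm]; ring
  have hK : (K : ZMod r) = (8 : ℕ) := by
    rw [hKdef]
    push_cast
    exact Kap.kap_E6_8 _ (prim_phi_8 hr)
  have ha0 : 0 < r - 1 := by omega
  have har : a < r := lt_of_le_of_lt (Nat.le_of_dvd ha0 ha) (by omega)
  have hD3 : D = 1 ∨ D = 3 := by
    have h1 : D ∣ 3 := Nat.gcd_dvd_left _ _
    exact (Nat.dvd_prime Nat.prime_three).1 h1
  have hD0 : 0 < D := by omega
  have ht0 : 0 < t := Nat.pos_of_ne_zero (by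
    rintro rfl
    rw [zero_mul] at hc
    exact absurd hc Nat.card_pos.ne')
  obtain ⟨s, rfl⟩ := htm
  have hsD : s ∣ D := Nat.dvd_of_mul_dvd_mul_left ht0 (by rw [mul_comm t D]; exact hmt)
  have hcK : (D : ℤ) * c = s * K := by
    have h1 : (D : ℤ) * (t * c) = (t * s) * K := by
      rw [hc] at hG; push_cast at hG; exact hG
    have ht : (t : ℤ) ≠ 0 := by exact_mod_cast ht0.ne'
    apply mul_left_cancel₀ ht
    linear_combination h1
  have hcz : (c : ZMod r) = a := (ZMod.natCast_eq_natCast_iff _ _ _).2 hca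
  have hDs : (D : ZMod r) * a = s * (8 : ℕ) := by
    have h1 := congrArg (Int.cast : ℤ → ZMod r) hcK
    push_cast at h1 hK ⊢
    rw [hcz, hK] at h1
    exact h1
  have hDr : ¬ r ∣ D := fun h1 => by
    have := Nat.le_of_dvd hD0 h1
    omega
  have hsone : s = D ∨ (s = 1 ∧ D = 3) := by
    rcases hD3 with h1 | h1
    · left
      rw [h1] at hsD ⊢
      exact Nat.dvd_one.1 hsD
    · rw [h1] at hsD
      rcases (Nat.dvd_prime Nat.prime_three).1 hsD with h2 | h2
      · exact Or.inr ⟨h2, h1⟩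
      · exact Or.inl (h2.trans h1.symm)
  have hDz : (D : ZMod r) ≠ 0 := by rwa [Ne, ZMod.natCast_eq_zero_iff]
  rcases hsone with h0 | ⟨h0, h3⟩
  · rw [h0] at hDs
    have h1 : (a : ZMod r) = (8 : ℕ) := mul_left_cancel₀ hDz hDs
    rw [ZMod.natCast_eq_natCast_iff, Nat.ModEq, Nat.mod_eq_of_lt har, Nat.mod_eq_of_lt hlt] at h1
    rw [h1]
  · exfalso
    rw [h0, h3, Nat.cast_one, one_mul, ← Nat.cast_mul, ZMod.natCast_eq_natCast_iff] at hDs
    have hd : (r : ℤ) ∣ (8 : ℤ) - 3 * a := by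
      have := (Nat.modEq_iff_dvd).1 hDs
      push_cast at this
      exact this
    obtain ⟨j, hj⟩ := hd
    obtain ⟨b, hb⟩ := ha
    obtain ⟨g, hg⟩ := hmod
    have har' : (a : ℤ) < r := by exact_mod_cast har
    have hr9 : (8 : ℤ) < r := by exact_mod_cast hlt
    have ha1 : 0 < a := Nat.pos_of_ne_zero (by rintro rfl; rw [zero_mul] at hb; omega)
    have hb1 : 0 < b := Nat.pos_of_ne_zero (by rintro rfl; rw [mul_zero] at hb; omega)
    -- `3 a - 8 = - j r`
    have hj0 : j ≤ 0 := by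
      by_contra hcon
      push Not at hcon
      have h1 : (r : ℤ) * 1 ≤ r * j := mul_le_mul_of_nonneg_left (by omega) (by omega)
      have : (0 : ℤ) < a := by exact_mod_cast ha1
      omega
    have hj2 : -2 ≤ j := by
      by_contra hcon
      push Not at hcon
      have h1 : (r : ℤ) * j ≤ r * (-3) := mul_le_mul_of_nonneg_left (by omega) (by omega)
      omega
    have hj3 : j = 0 ∨ j = -1 ∨ j = -2 := by omega
    have hrab : (r : ℤ) = a * b + 1 := by
      have : r = a * b + 1 := by omega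
      exact_mod_cast this
    rcases hj3 with rfl | rfl | rfl
    · omega
    · -- `3 a = 8 + r`
      have h1 : (3 : ℤ) * a = a * b + 9 := by rw [hrab] at hj; linarith
      have h2 : 3 * a = a * b + 9 := by exact_mod_cast h1
      have hb3 : b < 3 := by
        by_contra hcon
        push Not at hcon
        have : a * 3 ≤ a * b := Nat.mul_le_mul_left _ hcon
        omega
      interval_cases b <;> omega
    · have h1 : (3 : ℤ) * a = 2 * (a * b) + 10 := by rw [hrab] at hj; linarith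
      have h2 : 3 * a = 2 * (a * b) + 10 := by exact_mod_cast h1
      have hb3 : b < 2 := by
        by_contra hcon
        push Not at hcon
        have : a * 2 ≤ a * b := Nat.mul_le_mul_left _ hcon
        omega
      interval_cases b <;> omega

end Cfsg.Agent.H742.PD
end

-- part: H109/PD/PslA
section
set_option linter.all false
open scoped Cfsg.Agent.FastGrp

/-!
# S4246, row `PSL(2, q)`: automorphisms of prime order and the characteristic (helper109)

* `exists_conj_up` : a `p`-subgroup of `PSL(2, F)` is conjugate to a group of unitriangular elements;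
* `pow_char_of_comm` : an element commuting with an element of order `p` has order dividing `p`;
* `fix_char` : an automorphism of prime order `t ≠ p` : the `p`-part of its fixed points is trivial, or
  `|F| = p ^ (f₀ t)` and the `p`-part is at most `p ^ f₀`.
-/

set_option autoImplicit false
set_option linter.unusedSectionVars false

namespace Cfsg.Agent.H109.PD

open Matrix Subgroup
open Cfsg.Agent.ClassicalGeometry
open Cfsg.Agent.ClassicalGeometry.AutPSL.Root (pr pr_surjective)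
open Cfsg.Agent.ClassicalGeometry.AutPSL.Auto
open Cfsg.Agent.Walter.FieldPSL
open Cfsg.Agent.Lib.SL2Mat
open Cfsg.Agent.Lib.AutSL2 (upG mem_upG up_mem up_pow sylU mem_smul_sylow)
open Cfsg.Agent.H160.PD

variable {F : Type*} [Field F]

/-- abbreviation -/
abbrev P2 (F : Type*) [Field F] := Matrix.ProjectiveSpecialLinearGroup (Fin 2) F

theorem coe_up (b : F) : (up b : Matrix.SpecialLinearGroup (Fin 2) F).1 = !![1, b; 0, 1] := rfl

theorem upper {A : Matrix (Fin 2) (Fin 2) F} {s b : F} (hb : b ≠ 0) (hdet : A.det ≠ 0)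
    (h : A * (up s).1 = (up b).1 * A ∨ A * (up s).1 = -((up b).1 * A)) :
    A 1 0 = 0 ∧ A 0 0 * s = b * A 1 1 := by
  rw [coe_up, coe_up] at h
  rw [det_fin_two] at hdet
  rcases h with h | h
  · have e00 := congrFun (congrFun h 0) 0
    have e01 := congrFun (congrFun h 0) 1
    simp only [mul_apply, Fin.sum_univ_two, of_apply, cons_val', cons_val_zero, cons_val_fin_one, cons_val_one] at e00 e01
    have h1 : b * A 1 0 = 0 := by linear_combination -e00
    have h2 : A 1 0 = 0 := (mul_eq_zero.1 h1).resolve_left hb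
    exact ⟨h2, by linear_combination e01⟩
  · have e00 := congrFun (congrFun h 0) 0
    have e01 := congrFun (congrFun h 0) 1
    have e10 := congrFun (congrFun h 1) 0
    rw [Matrix.neg_apply] at e00 e01 e10
    simp only [mul_apply, Fin.sum_univ_two, of_apply, cons_val', cons_val_zero, cons_val_fin_one, cons_val_one]
      at e00 e01 e10
    by_cases h2 : (2 : F) = 0
    · have h1 : b * A 1 0 = 0 := by linear_combination -e00 + (b * A 1 0 + A 0 0) * h2
      have h3 : A 1 0 = 0 := (mul_eq_zero.1 h1).resolve_left hb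
      exact ⟨h3, by linear_combination e01 - (A 0 1 + b * A 1 1) * h2⟩
    · exfalso
      have h3 : A 1 0 = 0 := by
        have : (2 : F) * A 1 0 = 0 := by linear_combination e10
        exact (mul_eq_zero.1 this).resolve_left h2
      have h4 : A 0 0 = 0 := by
        have : (2 : F) * A 0 0 = 0 := by rw [h3] at e00; linear_combination e00
        exact (mul_eq_zero.1 this).resolve_left h2
      apply hdet
      rw [h3, h4]
      ring

theorem pr_up_inj {a b : F} (h : pr (up a) = pr (up b)) : a = b := by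
  rcases pr_eq_iff.1 h with h | h
  · exact up_inj h
  · have e00 := congrArg (fun x : Matrix.SpecialLinearGroup (Fin 2) F => x.1 0 0) h
    have e01 := congrArg (fun x : Matrix.SpecialLinearGroup (Fin 2) F => x.1 0 1) h
    have e1 : (1 : F) = -1 := e00
    have e2 : a = -b := e01
    linear_combination e2 - b * e1

theorem det_ne_zero' (A : GL (Fin 2) F) : (A : Matrix (Fin 2) (Fin 2) F).det ≠ 0 :=
  ((Matrix.isUnit_iff_isUnit_det _).1 A.isUnit).ne_zero

theorem cj_eq_iff {A : GL (Fin 2) F} {X Y : Matrix.SpecialLinearGroup (Fin 2) F} :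
    cj A X = Y ↔ (A : Matrix (Fin 2) (Fin 2) F) * X.1 = Y.1 * A := by
  have hA : ((A⁻¹ : GL (Fin 2) F) : Matrix (Fin 2) (Fin 2) F) * (A : Matrix (Fin 2) (Fin 2) F) = 1 := by
    rw [← Units.val_mul, inv_mul_cancel, Units.val_one]
  have hA' : (A : Matrix (Fin 2) (Fin 2) F) * ((A⁻¹ : GL (Fin 2) F) : Matrix (Fin 2) (Fin 2) F) = 1 := by
    rw [← Units.val_mul, mul_inv_cancel, Units.val_one]
  constructor
  · rintro rfl
    rw [show (cj A X).1 = (A : Matrix (Fin 2) (Fin 2) F) * X.1 * ((A⁻¹ : GL (Fin 2) F) : Matrix (Fin 2) (Fin 2) F) from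
      rfl, mul_assoc, hA, mul_one]
  · intro h
    apply Subtype.ext
    rw [show (cj A X).1 = (A : Matrix (Fin 2) (Fin 2) F) * X.1 * ((A⁻¹ : GL (Fin 2) F) : Matrix (Fin 2) (Fin 2) F) from
      rfl, h, mul_assoc, hA', mul_one]

theorem fld_up (σ : F ≃+* F) (b : F) : fld σ (up b) = up (σ b) := by
  refine ext_ent ?_ ?_ ?_ ?_
  · exact map_one σ
  · rfl
  · exact map_zero σ
  · exact map_one σ

/-- the action of an automorphism fixing a unitriangular element -/
theorem act {A : GL (Fin 2) F} {σ : F ≃+* F} {b₀ : F} (hb₀ : b₀ ≠ 0)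
    (h : lift (cj A * fld σ) (pr (up b₀)) = pr (up b₀)) :
    (A : Matrix (Fin 2) (Fin 2) F) 1 0 = 0 ∧
    (A : Matrix (Fin 2) (Fin 2) F) 0 0 * σ b₀ = b₀ * (A : Matrix (Fin 2) (Fin 2) F) 1 1 ∧
    ∀ y, lift (cj A * fld σ) (pr (up (b₀ * y))) = pr (up (b₀ * σ y)) := by
  have hm : ∀ b, lift (cj A * fld σ) (pr (up b)) = pr (cj A (up (σ b))) := by
    intro b
    rw [lift_pr, MulAut.mul_apply, fld_up]
  rw [hm, pr_eq_iff] at h
  have h1 : (A : Matrix (Fin 2) (Fin 2) F) * (up (σ b₀)).1 = (up b₀).1 * A ∨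
      (A : Matrix (Fin 2) (Fin 2) F) * (up (σ b₀)).1 = -((up b₀).1 * A) := by
    rcases h with h | h
    · exact Or.inl (cj_eq_iff.1 h)
    · right
      rw [cj_eq_iff.1 h, ← neg_mul]
      rfl
  obtain ⟨e1, e2⟩ := upper hb₀ (det_ne_zero' A) h1
  refine ⟨e1, e2, fun y => ?_⟩
  rw [hm]
  congr 1
  rw [cj_eq_iff, coe_up, coe_up]
  ext i j
  (revert i j; simp only [mul_apply, Fin.sum_univ_two, e1, _root_.Fin.forall_fin_succ, _root_.map_mul, _root_.Matrix.of_apply, _root_.Matrix.cons_val', _root_.Matrix.cons_val_fin_one, Fin.isValue, _root_.Matrix.cons_val_zero, _root_.Matrix.cons_val_one, _root_.mul_one, _root_.MulZeroClass.mul_zero, _root_.add_zero, _root_.Matrix.cons_val_succ, _root_.Fin.succ_zero_eq_one, _root_.IsEmpty.forall_iff, _root_.one_mul, _root_.MulZeroClass.zero_mul, _root_.zero_add, _root_.and_true, _root_.true_and]) <;> (repeat' with_reducible apply And.intro)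
  linear_combination σ y * e2

/-! ### elements commuting with an element of order `p` -/

variable [Finite F] {p : ℕ} [Fact p.Prime] [CharP F p]

theorem exists_conj_up {P : Subgroup (P2 F)} (hP : IsPGroup p P) : ∃ g : P2 F, ∀ x ∈ P, ∃ b : F, g * x * g⁻¹ = pr (up b) := by
  obtain ⟨Q, hQ⟩ := hP.exists_le_sylow
  let U : Sylow p (P2 F) := (sylU F p).mapSurjective pr_surjective
  obtain ⟨g, hg⟩ := MulAction.exists_smul_eq (P2 F) Q U
  refine ⟨g, fun x hx => ?_⟩
  have h1 : g * x * g⁻¹ ∈ U := by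
    rw [← hg, mem_smul_sylow]
    have : g⁻¹ * (g * x * g⁻¹) * g = x := by group
    rw [this]
    exact hQ hx
  have h2 : g * x * g⁻¹ ∈ (sylU F p : Subgroup (Matrix.SpecialLinearGroup (Fin 2) F)).map (pr : _ →* P2 F) := h1
  obtain ⟨_, ⟨b, rfl⟩, hb⟩ := h2
  exact ⟨b, hb.symm⟩

theorem pr_up_pow (b : F) : pr (up b) ^ p = (1 : P2 F) := by
  rw [← map_pow, up_pow, CharP.cast_eq_zero, zero_mul, up_zero, map_one]

/-- **Centralisers of elements of order `p`.** -/
theorem pow_char_of_comm {x y : P2 F} (hx : x ^ p = 1) (hx1 : x ≠ 1) (hxy : y * x = x * y) : y ^ p = 1 := by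
  have hP : IsPGroup p (zpowers x) := by
    rintro ⟨_, n, rfl⟩
    refine ⟨1, Subtype.ext ?_⟩
    change (x ^ n) ^ p ^ 1 = 1
    rw [pow_one, ← zpow_natCast, ← _root_.zpow_mul, mul_comm, _root_.zpow_mul, zpow_natCast, hx, _root_.one_zpow]
  obtain ⟨g, hg⟩ := exists_conj_up (F := F) hP
  obtain ⟨b, hb⟩ := hg x (mem_zpowers x)
  have hb0 : b ≠ 0 := by
    rintro rfl
    rw [up_zero, map_one] at hb
    apply hx1
    rw [mul_inv_eq_one, mul_eq_left] at hb
    exact hb
  have h1 : (g * y * g⁻¹) * pr (up b) = pr (up b) * (g * y * g⁻¹) := by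
    rw [← hb]
    calc g * y * g⁻¹ * (g * x * g⁻¹) = g * (y * x) * g⁻¹ := by group
      _ = g * (x * y) * g⁻¹ := by rw [hxy]
      _ = _ := by group
  have key : ∀ z : P2 F, z * pr (up b) = pr (up b) * z → z ^ p = 1 := by
    intro z hz
    obtain ⟨Z, rfl⟩ := pr_surjective z
    rw [← map_mul, ← map_mul, pr_eq_iff] at hz
    have h2 : Z.1 * (up b).1 = (up b).1 * Z.1 ∨ Z.1 * (up b).1 = -((up b).1 * Z.1) := by
      rcases hz with h | h
      · exact Or.inl (congrArg Subtype.val h)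
      · exact Or.inr (congrArg Subtype.val h)
    obtain ⟨e1, e2⟩ := upper hb0 (by rw [Z.2]; exact one_ne_zero) h2
    have e3 : Z.1 0 0 = Z.1 1 1 := by
      apply mul_right_cancel₀ hb0
      rw [e2, mul_comm]
    have e4 : Z.1 0 0 * Z.1 0 0 = 1 := by
      have := Z.2
      rw [det_fin_two, e1, ← e3] at this
      linear_combination this
    have e5 : Z = up (Z.1 0 0 * Z.1 0 1) ∨ Z = -up (Z.1 0 0 * Z.1 0 1) := by
      rcases mul_self_eq_one_iff.1 e4 with h | h
      · left
        refine ext_ent ?_ ?_ ?_ ?_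
        · exact h
        · rw [up_01, h, one_mul]; rfl
        · exact e1
        · exact e3.symm.trans h
      · right
        refine ext_ent ?_ ?_ ?_ ?_
        · exact h
        · change Z.1 0 1 = -(Z.1 0 0 * Z.1 0 1)
          rw [h]; ring
        · change Z.1 1 0 = -0
          rw [e1, neg_zero]
        · exact e3.symm.trans h
    rcases e5 with h | h
    · rw [h]; exact pr_up_pow _
    · rw [h, pr_neg]; exact pr_up_pow _
  have h3 := key _ h1
  rw [conj_pow] at h3
  rw [mul_inv_eq_one, mul_eq_left] at h3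
  exact h3

/-! ### automorphisms of prime order -/

omit [Finite F] in
theorem cj_fld_pow {A : GL (Fin 2) F} {σ : F ≃+* F} {b₀ : F} (hb₀ : b₀ ≠ 0)
    (h : lift (cj A * fld σ) (pr (up b₀)) = pr (up b₀)) (n : ℕ) (y : F) :
    ((lift (cj A * fld σ)) ^ n : MulAut (P2 F)) (pr (up (b₀ * y))) = pr (up (b₀ * (σ ^ n) y)) := by
  induction n generalizing y with
  | zero => rfl
  | succ n ih =>
    rw [pow_succ, MulAut.mul_apply, (act hb₀ h).2.2, ih]
    rfl

/-- **Fixed points of an automorphism of prime order `t ≠ p`.** -/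
theorem fix_char {f : ℕ} (hF : Nat.card F = p ^ f) {α : MulAut (P2 F)} {t : ℕ} (ht : t.Prime) (htp : t ≠ p)
    (hα : orderOf α = t) : v p (Fx α) = 0 ∨ ∃ f₀, f = f₀ * t ∧ v p (Fx α) ≤ f₀ := by
  classical
  have := Fintype.ofFinite F
  have hp : p.Prime := Fact.out
  have hαt : α ^ t = 1 := by rw [← hα]; exact pow_orderOf_eq_one α
  have hα1 : α ≠ 1 := fun h => by rw [h, orderOf_one] at hα; exact ht.one_lt.ne hα
  by_cases hv : v p (Fx α) = 0
  · exact Or.inl hv
  right
  obtain ⟨Q⟩ : Nonempty (Sylow p (Fx α)) := inferInstance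
  have hQc : Nat.card Q = p ^ v p (Fx α) := Q.card_eq_multiplicity
  let P : Subgroup (P2 F) := (Q : Subgroup (Fx α)).map (Fx α).subtype
  have hPc : Nat.card P = p ^ v p (Fx α) := by
    rw [← hQc]
    exact Nat.card_congr ((Q : Subgroup (Fx α)).equivMapOfInjective _ (subtype_injective _)).symm.toEquiv
  have hP : IsPGroup p P := IsPGroup.of_card hPc
  have hPα : ∀ x ∈ P, α x = x := by
    rintro _ ⟨x, -, rfl⟩
    exact x.2
  obtain ⟨g, hg⟩ := exists_conj_up (F := F) hP
  obtain ⟨β, hβ⟩ : ∃ β : MulAut (P2 F), β = MulAut.conj g * α * (MulAut.conj g)⁻¹ := ⟨_, rfl⟩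
  have hβg : ∀ x ∈ P, β (g * x * g⁻¹) = g * x * g⁻¹ := by
    intro x hx
    have : (MulAut.conj g)⁻¹ (g * x * g⁻¹) = x := by
      rw [← map_inv, MulAut.conj_apply]
      group
    rw [hβ, MulAut.mul_apply, MulAut.mul_apply, this, hPα x hx, MulAut.conj_apply]
  have hβt : β ^ t = 1 := by rw [hβ, conj_pow, hαt, mul_one, mul_inv_cancel]
  have hβ1 : β ≠ 1 := by
    intro h
    rw [hβ, mul_inv_eq_one, mul_eq_left] at h
    exact hα1 h
  obtain ⟨A, σ, hAσ⟩ := ClassicalGeometry.AutPSL.Main.surj_two p β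
  -- a nontrivial element of `P`
  have hP1 : P ≠ ⊥ := by
    intro h
    rw [h, card_bot] at hPc
    have := Nat.one_lt_pow hv hp.one_lt
    omega
  obtain ⟨x₀, hx₀, hx₀1⟩ := (Subgroup.ne_bot_iff_exists_ne_one).1 hP1 |>.elim fun x hx =>
    (⟨x.1, x.2, fun h => hx (Subtype.ext h)⟩ : ∃ x₀ : P2 F, x₀ ∈ P ∧ x₀ ≠ 1)
  obtain ⟨b₀, hb₀⟩ := hg x₀ hx₀
  have hb₀0 : b₀ ≠ 0 := by
    rintro rfl
    rw [up_zero, map_one, mul_inv_eq_one, mul_eq_left] at hb₀
    exact hx₀1 hb₀
  have hfix : β (pr (up b₀)) = pr (up b₀) := by rw [← hb₀]; exact hβg x₀ hx₀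
  rw [hAσ] at hfix hβt
  obtain ⟨e1, e2, e3⟩ := act hb₀0 hfix
  have hσt : σ ^ t = 1 := by
    ext y
    have h1 := cj_fld_pow hb₀0 hfix t y
    rw [hβt] at h1
    have h2 := pr_up_inj h1
    exact (mul_left_cancel₀ hb₀0 h2).symm
  have hσ1 : σ ≠ 1 := by
    rintro rfl
    -- `β` is the conjugation by a unitriangular matrix
    have h3 : (A : Matrix (Fin 2) (Fin 2) F) 0 0 = (A : Matrix (Fin 2) (Fin 2) F) 1 1 := by
      apply mul_right_cancel₀ hb₀0
      rw [mul_comm ((A : Matrix (Fin 2) (Fin 2) F) 1 1)]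
      exact e2
    have h4 : (A : Matrix (Fin 2) (Fin 2) F) 0 0 ≠ 0 := by
      intro h0
      apply det_ne_zero' A
      rw [det_fin_two, e1, h0]
      ring
    obtain ⟨B, hB⟩ : ∃ B : GL (Fin 2) F, B = Matrix.SpecialLinearGroup.toGL
      (up ((A : Matrix (Fin 2) (Fin 2) F) 0 1 / (A : Matrix (Fin 2) (Fin 2) F) 0 0)) := ⟨_, rfl⟩
    have h5 : (A : Matrix (Fin 2) (Fin 2) F) = (A : Matrix (Fin 2) (Fin 2) F) 0 0 • (B : Matrix (Fin 2) (Fin 2) F) := by
      rw [hB]
      change _ = (A : Matrix (Fin 2) (Fin 2) F) 0 0 •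
        (!![1, (A : Matrix (Fin 2) (Fin 2) F) 0 1 / (A : Matrix (Fin 2) (Fin 2) F) 0 0; 0, 1] : Matrix (Fin 2) (Fin 2) F)
      ext i j
      (revert i j; simp only [e1, h3, _root_.Fin.forall_fin_succ, Fin.isValue, _root_.Matrix.smul_apply, _root_.Matrix.of_apply, _root_.Matrix.cons_val', _root_.Matrix.cons_val_fin_one, _root_.smul_eq_mul, _root_.Matrix.cons_val_zero, _root_.Matrix.cons_val_succ, _root_.Fin.succ_zero_eq_one, _root_.IsEmpty.forall_iff, _root_.mul_one, _root_.MulZeroClass.mul_zero, _root_.and_true, _root_.true_and]) <;> (repeat' with_reducible apply And.intro)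
      rw [h3] at h4
      field_simp
    have h6 : cj A = cj B := CpAutRee.PslThree.cj_eq_of_smul h5
    have h7 : cj B ^ p = 1 := by
      rw [← map_pow, hB, ← map_pow, up_pow, CharP.cast_eq_zero, zero_mul, up_zero, map_one, map_one]
    have h8 : β ^ p = 1 := by
      rw [hAσ, map_one, mul_one, h6, ← map_pow, h7, map_one]
    have h9 : β ^ t = 1 := by rw [hAσ]; exact hβt
    apply hβ1
    have h10 : orderOf β ∣ Nat.gcd p t := Nat.dvd_gcd (orderOf_dvd_of_pow_eq_one h8) (orderOf_dvd_of_pow_eq_one h9)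
    rw [(Nat.coprime_primes hp ht).2 htp.symm] at h10
    exact orderOf_eq_one_iff.1 (Nat.dvd_one.1 h10)
  have hcF := H568.FieldFix.card_fx ht hσt hσ1
  have hdvd : Nat.card ↥(H568.FieldFix.fx σ) ∣ p ^ f := by
    rw [← hF, hcF]
    exact dvd_pow_self _ ht.ne_zero
  obtain ⟨f₀, -, hf₀⟩ := (Nat.dvd_prime_pow hp).1 hdvd
  refine ⟨f₀, ?_, ?_⟩
  · rw [hF, hf₀, ← pow_mul] at hcF
    exact Nat.pow_right_injective hp.two_le hcF
  -- the fixed points
  have hinj : Nat.card P ≤ Nat.card ↥(H568.FieldFix.fx σ) := by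
    have hex : ∀ x : P, ∃ y : ↥(H568.FieldFix.fx σ), g * x.1 * g⁻¹ = pr (up (b₀ * y.1)) := by
      rintro ⟨x, hx⟩
      obtain ⟨b, hb⟩ := hg x hx
      have h1 : β (pr (up b)) = pr (up b) := by rw [← hb]; exact hβg x hx
      have h2 : b₀ * (b₀⁻¹ * b) = b := by rw [← mul_assoc, mul_inv_cancel₀ hb₀0, one_mul]
      rw [hAσ, ← h2, e3] at h1
      have h3 := mul_left_cancel₀ hb₀0 (pr_up_inj h1)
      refine ⟨⟨b₀⁻¹ * b, h3⟩, ?_⟩
      rw [h2]
      exact hb
    choose φ hφ using hex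
    refine Nat.card_le_card_of_injective φ fun x y hxy => ?_
    have h1 := hφ x
    rw [hxy, ← hφ y] at h1
    exact Subtype.ext (mul_left_cancel (mul_right_cancel h1))
  rw [hPc, hf₀] at hinj
  exact (Nat.pow_le_pow_iff_right hp.one_lt).1 hinj

end Cfsg.Agent.H109.PD
end
end
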